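import Cfsg.Agent.Spor.An12.S.D0

set_option autoImplicit false
set_option maxRecDepth 100000000
set_option Elab.async false

namespace Cfsg.Agent.Spor.An12.S

theorem gr3 : sub 0xffe (U.growI W2 [0, 1, 2, 3, 4, 5, 6, 7, 8, 0] (Nat.shiftLeft 1 1)) = true := by decide +kernel

theorem sd5 : U.sends [19] 0 1 = true := by decide +kernel

theorem gr6 : sub (ones 12) (U.growI ([19] :: W2) [0, 1, 2, 3, 4, 5, 6, 7, 8, 9, 1] (Nat.shiftLeft 1 0)) = true := by decide +kernel

theorem ff8 : U.fixFrom 4 12 1 = true := by decide +kernel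

theorem ff9 : U.fixFrom 4 12 3 = true := by decide +kernel

theorem ff10 : U.fixFrom 4 12 5 = true := by decide +kernel

theorem ff11 : U.fixFrom 4 12 7 = true := by decide +kernel

theorem ff12 : U.fixFrom 4 12 9 = true := by decide +kernel

theorem ff13 : U.fixFrom 4 12 11 = true := by decide +kernel

theorem ff14 : U.fixFrom 4 12 13 = true := by decide +kernel

theorem ff15 : U.fixFrom 4 12 15 = true := by decide +kernel

theorem ff16 : U.fixFrom 4 12 17 = true := by decide +kernel

theorem ff17 : U.fixFrom 4 12 19 = true := by decide +kernel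

end Cfsg.Agent.Spor.An12.S
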