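import Cfsg.Agent.Spor.Prim
import Cfsg.Agent.Spor.An12.Main
import Cfsg.Agent.Spor.An12.S.C0

set_option autoImplicit false
set_option maxRecDepth 100000000
set_option Elab.async false

namespace Cfsg.Agent.Spor.An12.S

theorem hU : U.Ok 4 := U.ok_of 4 (show AllP (fun n => Net.okb 4 n = true) [n0, n1, n2, n3, n4, n5, n6, n7, n8, n9] from AllP.cons ok0 (AllP.cons ok1 (AllP.cons ok2 (AllP.cons ok3 (AllP.cons ok4 (AllP.cons ok5 (AllP.cons ok6 (AllP.cons ok7 (AllP.cons ok8 (AllP.cons ok9 (AllP.nil)))))))))))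

theorem hfP : ∀ j < 10, U.fP [1, 3, 5, 7, 9, 11, 13, 15, 17, 19] j = fP j := by
  intro j hj
  interval_cases j <;> rfl
theorem eG : gsub 10 fP = U.lsub W1 := (gsub_congr hfP).symm.trans (lsub_eq_gsub U [1, 3, 5, 7, 9, 11, 13, 15, 17, 19])
theorem upz1 : ev (atm 10 fP) [0] = U.τ 1 := pz1
theorem upz3 : ev (atm 10 fP) [2] = U.τ 3 := pz2
theorem upz5 : ev (atm 10 fP) [4] = U.τ 5 := pz3
theorem upz7 : ev (atm 10 fP) [6] = U.τ 7 := pz4
theorem upz9 : ev (atm 10 fP) [8] = U.τ 9 := pz5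
theorem upz11 : ev (atm 10 fP) [10] = U.τ 11 := pz6
theorem upz13 : ev (atm 10 fP) [12] = U.τ 13 := pz7
theorem upz15 : ev (atm 10 fP) [14] = U.τ 15 := pz8
theorem upz17 : ev (atm 10 fP) [16] = U.τ 17 := pz9
theorem upz19 : ev (atm 10 fP) [18] = U.τ 19 := pz10
theorem eH : wsub 10 fP BW = U.lsub W2 :=
  lsub_eq_of_all₂ (show List.Forall₂ _ [[0], [2], [4], [6], [8], [10], [12], [14], [16]] [[1], [3], [5], [7], [9], [11], [13], [15], [17]] from List.Forall₂.cons (upz1.trans (one_mul _).symm) (List.Forall₂.cons (upz3.trans (one_mul _).symm) (List.Forall₂.cons (upz5.trans (one_mul _).symm) (List.Forall₂.cons (upz7.trans (one_mul _).symm) (List.Forall₂.cons (upz9.trans (one_mul _).symm) (List.Forall₂.cons (upz11.trans (one_mul _).symm) (List.Forall₂.cons (upz13.trans (one_mul _).symm) (List.Forall₂.cons (upz15.trans (one_mul _).symm) (List.Forall₂.cons (upz17.trans (one_mul _).symm) (List.Forall₂.nil))))))))))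
theorem reach4 : Reach (U.lsub W2) 1 0xffe := (Reach.grow hU (Reach.base _ 1) gr3)
theorem reach7 : Reach (U.lsub ([19] :: W2)) 0 (ones 12) := (Reach.grow hU (Reach.base _ 0) gr6)
noncomputable def X : List SubO := [([19], 1, 0xffe)]
theorem hX : AllP (SubOk U W2 W1) X :=
  show AllP (SubOk U W2 W1) [([19], 1, 0xffe)] from AllP.cons ⟨U.mem_letters (by decide), (hU.sends sd5), reach4⟩ (AllP.nil)
theorem hXc : subCov 12 X = true := by decide +kernel
theorem hY : AllP (fun x : SubO => Reach (U.lsub (x.1 :: W2)) 0 (ones 12)) X :=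
  show AllP (fun x : SubO => Reach (U.lsub (x.1 :: W2)) 0 (ones 12)) [([19], 1, 0xffe)] from AllP.cons reach7 (AllP.nil)
theorem hfix : gsub 10 fP ≤ FixFrom 12 := (gsub_congr hfP).symm.le.trans (hU.gsub_fix (gs := [1, 3, 5, 7, 9, 11, 13, 15, 17, 19]) (AllP.cons ff8 (AllP.cons ff9 (AllP.cons ff10 (AllP.cons ff11 (AllP.cons ff12 (AllP.cons ff13 (AllP.cons ff14 (AllP.cons ff15 (AllP.cons ff16 (AllP.cons ff17 (AllP.nil))))))))))))

end Cfsg.Agent.Spor.An12.S
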